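import Cfsg.Prelude.Def_SolvableStructure
import Cfsg.Agent.Coprime.SchurZassenhaus

/-!
Supersolvable groups: quotients, a normal subgroup of prime order, and the Sylow tower
(for every bound `t`, a normal subgroup carrying exactly the primes `≥ t`).
-/

set_option autoImplicit false

namespace Cfsg.Lib.Supersolvable

universe u

variable {G : Type u} [Group G]

theorem map_surjective {G' : Type u} [Group G'] (hG : Cfsg.IsSupersolvable G) (f : G →* G')
    (hf : Function.Surjective f) : Cfsg.IsSupersolvable G' := by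
  obtain ⟨n, H, h0, hl, hn, hs⟩ := hG
  refine ⟨n, fun i => (H i).map f, by simp [h0], by simp [hl, Subgroup.map_top_of_surjective f hf],
    fun i => (hn i).map f hf, fun i => ?_⟩
  obtain ⟨g, hg⟩ := hs i
  exact ⟨f g, by simp [hg, Subgroup.map_sup, MonoidHom.map_zpowers]⟩

theorem exists_normal_prime_card [Finite G] [Nontrivial G] (hG : Cfsg.IsSupersolvable G) :
    ∃ C : Subgroup G, C.Normal ∧ (Nat.card C).Prime := by
  obtain ⟨n, H, h0, hl, hn, hs⟩ := hG
  obtain ⟨i, hi0, hi1⟩ : ∃ i : Fin n, H i.castSucc = ⊥ ∧ H i.succ ≠ ⊥ := by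
    by_contra hc
    push Not at hc
    have : ∀ j : Fin (n + 1), H j = ⊥ := fun j => by
      induction j using Fin.induction with
      | zero => exact h0
      | succ i ih => exact hc i ih
    exact top_ne_bot (hl ▸ this _)
  obtain ⟨g, hg⟩ := hs i
  rw [hi0, bot_sup_eq] at hg
  haveI := hn i.succ
  have hg1 : g ≠ 1 := fun h => hi1 (by rw [hg, h, Subgroup.zpowers_one_eq_bot])
  obtain ⟨r, hr, hrd⟩ := Nat.exists_prime_and_dvd (n := orderOf g)
    (fun h => hg1 (orderOf_eq_one_iff.mp h))
  obtain ⟨k, hk⟩ := hrd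
  have ho : orderOf (g ^ k) = r := by
    rw [orderOf_pow_of_dvd (fun h => by simp [h, (orderOf_pos g).ne'] at hk)
      (Dvd.intro_left r hk.symm), hk, Nat.mul_div_cancel]
    exact Nat.pos_of_ne_zero fun h => by simp [h, (orderOf_pos g).ne'] at hk
  refine ⟨Subgroup.zpowers (g ^ k), ⟨fun x hx y => ?_⟩, by rw [Nat.card_zpowers, ho]; exact hr⟩
  obtain ⟨z, rfl⟩ := Subgroup.mem_zpowers_iff.mp hx
  have hy : y * g * y⁻¹ ∈ Subgroup.zpowers g := by
    rw [← hg]
    exact (hn i.succ).conj_mem g (by rw [hg]; exact Subgroup.mem_zpowers g) y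
  obtain ⟨a, ha⟩ := Subgroup.mem_zpowers_iff.mp hy
  refine Subgroup.mem_zpowers_iff.mpr ⟨a * z, ?_⟩
  rw [zpow_mul', ← conj_zpow, ← conj_pow, ← ha, ← zpow_natCast, ← zpow_natCast, ← zpow_mul,
    ← zpow_mul, ← zpow_mul, ← zpow_mul]
  congr 1
  ring

/-- Sylow tower of a supersolvable group. -/
theorem exists_normal_hall_ge [Finite G] (hG : Cfsg.IsSupersolvable G) (t : ℕ) :
    ∃ N : Subgroup G, N.Normal ∧ (∀ r : ℕ, r.Prime → r ∣ Nat.card N → t ≤ r) ∧
      (∀ r : ℕ, r.Prime → r ∣ N.index → r < t) := by
  obtain ⟨k, hk⟩ : ∃ k, Nat.card G = k := ⟨_, rfl⟩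
  induction k using Nat.strong_induction_on generalizing G with
  | _ k ih =>
    rcases subsingleton_or_nontrivial G with hsub | hnt
    · refine ⟨⊥, inferInstance, fun r hr hd => ?_, fun r hr hd => ?_⟩
      · rw [Subgroup.card_bot] at hd; exact absurd hd hr.not_dvd_one
      · rw [Subgroup.index_bot, Nat.card_unique] at hd; exact absurd hd hr.not_dvd_one
    obtain ⟨C, hCn, hCp⟩ := exists_normal_prime_card hG
    have hlt : Nat.card (G ⧸ C) < k := by
      rw [← hk, Subgroup.card_eq_card_quotient_mul_card_subgroup C]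
      exact lt_mul_of_one_lt_right Nat.card_pos hCp.one_lt
    obtain ⟨K', hK'n, hKge, hKlt⟩ :=
      ih _ hlt (map_surjective hG (QuotientGroup.mk' C) (QuotientGroup.mk'_surjective C)) rfl
    set K := K'.comap (QuotientGroup.mk' C) with hK
    haveI hKn : K.Normal := hK'n.comap _
    have hCK : C ≤ K := fun x hx => by
      rw [hK, Subgroup.mem_comap, QuotientGroup.mk'_apply, (QuotientGroup.eq_one_iff x).mpr hx]
      exact one_mem _
    have hKi : K.index = K'.index :=
      K'.index_comap_of_surjective (QuotientGroup.mk'_surjective C)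
    have hKc : Nat.card K = Nat.card K' * Nat.card C := by
      have h1 := K.card_mul_index
      rw [Subgroup.card_eq_card_quotient_mul_card_subgroup C, ← K'.card_mul_index, hKi] at h1
      refine Nat.eq_of_mul_eq_mul_right (Nat.pos_of_ne_zero K'.index_ne_zero_of_finite) (h1.trans ?_)
      ring
    by_cases hrt : t ≤ Nat.card C
    · refine ⟨K, hKn, fun r hr hd => ?_, fun r hr hd => hKlt r hr (hKi ▸ hd)⟩
      rw [hKc] at hd
      rcases hr.dvd_mul.mp hd with h | h
      · exact hKge r hr h
      · rwa [(Nat.prime_dvd_prime_iff_eq hr hCp).mp h]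
    push Not at hrt
    have hcop : (Nat.card C).Coprime (C.relIndex K) := by
      refine hCp.coprime_iff_not_dvd.mpr fun h => ?_
      have : C.relIndex K = Nat.card K' := by
        have h1 := Subgroup.relIndex_mul_relIndex ⊥ C K bot_le hCK
        rw [Subgroup.relIndex_bot_left, Subgroup.relIndex_bot_left, hKc, mul_comm] at h1
        exact Nat.eq_of_mul_eq_mul_right hCp.pos h1
      exact absurd (hKge _ hCp (this ▸ h)) (not_le.mpr hrt)
    obtain ⟨L, hL⟩ := Subgroup.exists_right_complement'_of_coprime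
      (N := C.subgroupOf K) (by
        rwa [Nat.card_congr (Subgroup.subgroupOfEquivOfLe hCK).toEquiv])
    have hLc : Nat.card L = Nat.card K' := by
      have h1 := hL.card_mul
      rw [Nat.card_congr (Subgroup.subgroupOfEquivOfLe hCK).toEquiv, hKc, mul_comm] at h1
      exact Nat.eq_of_mul_eq_mul_right hCp.pos h1
    have hcen : ∀ l : L, ∀ c ∈ C, ((l : K) : G) * c * ((l : K) : G)⁻¹ = c := by
      haveI := hCn
      haveI : Fact (Nat.card C).Prime := ⟨hCp⟩
      haveI : IsCyclic C := isCyclic_of_prime_card rfl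
      let φ : L →* MulAut C :=
        (MulAut.conjNormal (H := C)).comp (K.subtype.comp L.subtype)
      have hone : ∀ l : L, φ l = 1 := fun l => by
        rw [← orderOf_eq_one_iff]
        have h1 : orderOf (φ l) ∣ Nat.card L := (orderOf_map_dvd φ l).trans (orderOf_dvd_natCard l)
        have h2 : orderOf (φ l) ∣ Nat.card C - 1 := by
          have := orderOf_dvd_natCard (φ l)
          rwa [IsCyclic.card_mulAut, Nat.totient_prime hCp] at this
        by_contra h
        obtain ⟨q, hq, hqd⟩ := Nat.exists_prime_and_dvd h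
        have h3 := hKge q hq (hLc ▸ hqd.trans h1)
        have h4 := Nat.le_of_dvd (by have := hCp.two_le; omega) (hqd.trans h2)
        omega
      intro l c hc
      exact congrArg Subtype.val (MulEquiv.congr_fun (hone l) ⟨c, hc⟩)
    haveI hLn : L.Normal := by
      refine Subgroup.normalizer_eq_top_iff.mp (eq_top_iff.mpr (hL.sup_eq_top.ge.trans
        (sup_le ?_ Subgroup.le_normalizer)))
      intro c hc
      have hcm : ∀ l : K, l ∈ L → l * c * l⁻¹ = c := fun l hl =>
        Subtype.ext (by simpa using hcen ⟨l, hl⟩ _ hc)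
      rw [Subgroup.mem_normalizer_iff]
      intro x
      constructor
      · intro hx
        have := hcm x hx
        rw [mul_inv_eq_iff_eq_mul] at this
        rwa [← this, mul_inv_cancel_right]
      · intro hx
        have := hcm _ hx
        have h2 : x = c * x * c⁻¹ := by
          rw [mul_inv_eq_iff_eq_mul] at this
          exact mul_left_cancel (a := c) (by simpa [mul_assoc] using this)
        rwa [h2]
    have hLcop : (Nat.card L).Coprime L.index := by
      rw [hL.index_eq_card, Nat.card_congr (Subgroup.subgroupOfEquivOfLe hCK).toEquiv, hLc]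
      exact (hCp.coprime_iff_not_dvd.mpr fun h => absurd (hKge _ hCp h) (not_le.mpr hrt)).symm
    refine ⟨L.map K.subtype, ?_, fun r hr hd => ?_, fun r hr hd => ?_⟩
    · refine ⟨fun x hx g => ?_⟩
      obtain ⟨⟨x, hxK⟩, hxL, rfl⟩ := Subgroup.mem_map.mp hx
      refine Subgroup.mem_map.mpr ⟨MulAut.conjNormal g ⟨x, hxK⟩, ?_, MulAut.conjNormal_apply g _⟩
      have hord : ∀ y : K, y ∈ L ↔ orderOf y ∣ Nat.card L := fun y => by
        refine ⟨fun hy => ?_, fun hy => ?_⟩
        · rw [← Subgroup.orderOf_mk y hy]; exact orderOf_dvd_natCard _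
        · have h1 : orderOf (QuotientGroup.mk' L y) ∣ Nat.card L := (orderOf_map_dvd _ y).trans hy
          have h2 : orderOf (QuotientGroup.mk' L y) ∣ L.index := by
            rw [Subgroup.index_eq_card]; exact orderOf_dvd_natCard _
          have h3 : orderOf (QuotientGroup.mk' L y) = 1 := Nat.eq_one_of_dvd_coprimes hLcop h1 h2
          rwa [orderOf_eq_one_iff, QuotientGroup.mk'_apply, QuotientGroup.eq_one_iff] at h3
      rw [hord, MulEquiv.orderOf_eq, ← hord]
      exact hxL
    · rw [Subgroup.card_subtype, hLc] at hd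
      exact hKge r hr hd
    · rw [Subgroup.index_map_subtype, hL.index_eq_card,
        Nat.card_congr (Subgroup.subgroupOfEquivOfLe hCK).toEquiv] at hd
      rcases hr.dvd_mul.mp hd with h | h
      · rw [(Nat.prime_dvd_prime_iff_eq hr hCp).mp h]; exact hrt
      · exact hKlt r hr (hKi ▸ h)

end Cfsg.Lib.Supersolvable
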