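import Cfsg.Agent.Coprime.Hall
import Cfsg.Agent.OrderType.Basic
import Mathlib.Data.Fintype.Perm
import Mathlib.GroupTheory.Nilpotent

/-!
Solvable groups whose Sylow subgroups are cyclic (odd primes) or two-generated (prime 2):
for every `t ≥ 5` there is a normal Hall subgroup for the primes `≥ t`.
-/

set_option linter.style.haveILetI false
set_option linter.unusedSectionVars false

namespace Cfsg.Lib.RankTwo

open Subgroup

universe u

/-- Odd `p`-subgroups are cyclic and `2`-subgroups are generated by two elements. -/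
def RankTwo (X : Type u) [Group X] : Prop :=
  (∀ p : ℕ, p.Prime → p ≠ 2 → ∀ S : Subgroup X, IsPGroup p S → IsCyclic S) ∧
    ∀ S : Subgroup X, IsPGroup 2 S → ∃ x y : X, closure {x, y} = S

variable {X : Type u} [Group X]

theorem exists_pGroup_map_eq [Finite X] {Y : Type u} [Group Y] {f : X →* Y}
    (hf : Function.Surjective f) {p : ℕ} [Fact p.Prime] {Q : Subgroup Y} (hQ : IsPGroup p Q) :
    ∃ R : Subgroup X, IsPGroup p R ∧ R.map f = Q := by
  obtain ⟨R₀⟩ : Nonempty (Sylow p (Q.comap f)) := inferInstance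
  refine ⟨(R₀ : Subgroup (Q.comap f)).map (Q.comap f).subtype, R₀.2.map _, ?_⟩
  let g : Q.comap f →* Q := MonoidHom.mk' (fun x => ⟨f x.1, x.2⟩)
    fun _ _ => Subtype.ext (map_mul f _ _)
  have hg : Function.Surjective g := fun y => by
    obtain ⟨x, hx⟩ := hf y.1
    exact ⟨⟨x, by rw [mem_comap, hx]; exact y.2⟩, Subtype.ext hx⟩
  have hfull : (R₀ : Subgroup (Q.comap f)).map g = ⊤ := by
    have : Finite Y := Finite.of_surjective f hf
    obtain ⟨k, hk⟩ := IsPGroup.iff_card.mp hQ
    refine (R₀.mapSurjective hg).3 (Q := ⊤) (hQ.to_subgroup ⊤ |>.to_le le_rfl) le_top |>.symm.trans ?_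
    rfl
  ext y
  constructor
  · rintro ⟨_, ⟨x, hx, rfl⟩, rfl⟩
    exact x.2
  · intro hy
    have h : (⟨y, hy⟩ : Q) ∈ (R₀ : Subgroup (Q.comap f)).map g := hfull ▸ mem_top _
    obtain ⟨x, hx, he⟩ := mem_map.mp h
    exact ⟨x, ⟨x, hx, rfl⟩, congrArg Subtype.val he⟩

theorem RankTwo.quotient [Finite X] (h : RankTwo X) (N : Subgroup X) [N.Normal] :
    RankTwo (X ⧸ N) := by
  refine ⟨fun p hp hodd S hS => ?_, fun S hS => ?_⟩
  · haveI := Fact.mk hp
    obtain ⟨R, hR, rfl⟩ := exists_pGroup_map_eq (QuotientGroup.mk'_surjective N) hS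
    haveI := h.1 p hp hodd R hR
    exact isCyclic_of_surjective ((QuotientGroup.mk' N).subgroupMap R)
      ((QuotientGroup.mk' N).subgroupMap_surjective R)
  · obtain ⟨R, hR, rfl⟩ := exists_pGroup_map_eq (QuotientGroup.mk'_surjective N) hS
    obtain ⟨x, y, hxy⟩ := h.2 R hR
    refine ⟨QuotientGroup.mk' N x, QuotientGroup.mk' N y, ?_⟩
    rw [← hxy, MonoidHom.map_closure, Set.image_pair]

theorem card_le_of_elementary [Finite X] (h : RankTwo X) {C : Subgroup X} [IsMulCommutative C]
    {q : ℕ} [hq : Fact q.Prime] (hqC : ∀ x ∈ C, x ^ q = 1) :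
    (q ≠ 2 → Nat.card C ≤ q) ∧ (q = 2 → Nat.card C ≤ 4) := by
  have hC : IsPGroup q C := fun x => ⟨1, Subtype.ext (by simpa using hqC x x.2)⟩
  refine ⟨fun hodd => ?_, fun h2 => ?_⟩
  · obtain ⟨g, hg⟩ := (h.1 q hq.out hodd C hC).exists_generator
    rw [← orderOf_eq_card_of_forall_mem_zpowers hg, ← Subgroup.orderOf_coe]
    exact Nat.le_of_dvd hq.out.pos (orderOf_dvd_of_pow_eq_one (hqC _ g.2))
  · subst h2
    obtain ⟨x, y, hxy⟩ := h.2 C hC
    have hx : x ∈ C := hxy ▸ subset_closure (by simp)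
    have hy : y ∈ C := hxy ▸ subset_closure (by simp)
    have hc : ∀ u ∈ C, ∀ v ∈ C, u * v = v * u := fun u hu v hv =>
      congrArg Subtype.val (mul_comm' (⟨u, hu⟩ : C) ⟨v, hv⟩)
    let e : Bool × Bool → X := fun b => (if b.1 then x else 1) * (if b.2 then y else 1)
    have hmem : ∀ z ∈ closure ({x, y} : Set X), ∃ b, e b = z := by
      intro z hz
      rw [← Set.singleton_union, Subgroup.closure_union, ← zpowers_eq_closure,
        ← zpowers_eq_closure] at hz
      have hn : zpowers y ≤ normalizer (zpowers x : Set X) :=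
        (zpowers_le.mpr (mem_normalizer_iff.mpr fun w => by
          constructor
          · intro hw
            rwa [hc y hy w (zpowers_le.mpr hx hw), mul_inv_cancel_right]
          · intro hw
            have hwC : w ∈ C := by
              have := C.mul_mem (C.mul_mem (C.inv_mem hy) (zpowers_le.mpr hx hw)) hy
              simpa [mul_assoc] using this
            rwa [hc y hy w hwC, mul_inv_cancel_right] at hw))
      obtain ⟨u, hu, v, hv, rfl⟩ := (Cfsg.Lib.Coprime.mem_sup_of_le_normalizer hn).mp hz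
      have key : ∀ w ∈ C, ∀ u ∈ zpowers w, ∃ b : Bool, (if b then w else 1) = u := by
        intro w hw u hu
        obtain ⟨k, rfl⟩ := mem_zpowers_iff.mp hu
        rcases Int.even_or_odd k with ⟨j, rfl⟩ | ⟨j, rfl⟩
        · refine ⟨false, ?_⟩
          simp only [Bool.false_eq_true, if_false]
          rw [← two_mul, zpow_mul, show w ^ (2 : ℤ) = 1 by exact_mod_cast hqC w hw, one_zpow]
        · refine ⟨true, ?_⟩
          simp only [if_true]
          rw [zpow_add, zpow_mul, show w ^ (2 : ℤ) = 1 by exact_mod_cast hqC w hw, one_zpow,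
            one_mul, zpow_one]
      obtain ⟨b₁, rfl⟩ := key x hx u hu
      obtain ⟨b₂, rfl⟩ := key y hy v hv
      exact ⟨(b₁, b₂), rfl⟩
    have hsurj : (C : Set X) ⊆ Set.range e := fun z hz => by
      have : z ∈ closure ({x, y} : Set X) := hxy ▸ hz
      exact hmem z this
    calc Nat.card C ≤ Nat.card (Set.range e) := Nat.card_mono (Set.toFinite _) hsurj
      _ ≤ Nat.card (Bool × Bool) := Finite.card_range_le e
      _ = 4 := by simp

theorem exists_normal_hall_ge [Finite X] [Group.IsSolvable X] (h : RankTwo X) (t : ℕ) (ht : 5 ≤ t) :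
    ∃ N : Subgroup X, N.Normal ∧ (∀ r : ℕ, r.Prime → r ∣ Nat.card N → t ≤ r) ∧
      (∀ r : ℕ, r.Prime → r ∣ N.index → r < t) := by
  obtain ⟨k, hk⟩ : ∃ k, Nat.card X = k := ⟨_, rfl⟩
  induction k using Nat.strong_induction_on generalizing X with
  | _ k ih =>
  rcases subsingleton_or_nontrivial X with hsub | hnt
  · refine ⟨⊥, inferInstance, fun r hr hd => ?_, fun r hr hd => ?_⟩
    · rw [Subgroup.card_bot] at hd; exact absurd hd hr.not_dvd_one
    · rw [Subgroup.index_bot, Nat.card_unique] at hd; exact absurd hd hr.not_dvd_one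
  obtain ⟨C, -, hCn, hCne, hCmin⟩ := Cfsg.Lib.Coprime.exists_minimal_normal
    (inferInstance : (⊤ : Subgroup X).Normal) top_ne_bot
  haveI := hCn
  obtain ⟨hCc, q, hq, hCp, hCe⟩ := Cfsg.Lib.Coprime.minimal_normal_solvable
    (inferInstance : Group.IsSolvable C) hCne hCmin
  haveI := hCc
  haveI := Fact.mk hq
  obtain ⟨a, hCa⟩ := IsPGroup.iff_card.mp hCp
  have hlt : Nat.card (X ⧸ C) < k := by
    rw [← hk, Subgroup.card_eq_card_quotient_mul_card_subgroup C]
    exact lt_mul_of_one_lt_right Nat.card_pos ((one_lt_card_iff_ne_bot _).mpr hCne)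
  obtain ⟨K', hK'n, hKge, hKlt⟩ := ih _ hlt (h.quotient C) rfl
  haveI := hK'n
  set K := K'.comap (QuotientGroup.mk' C) with hK
  haveI hKn : K.Normal := hK'n.comap _
  have hCK : C ≤ K := (QuotientGroup.ker_mk' C).ge.trans (MonoidHom.ker_le_comap _ _)
  have hKi : K.index = K'.index :=
    K'.index_comap_of_surjective (QuotientGroup.mk'_surjective C)
  have hKc : Nat.card K = Nat.card C * Nat.card K' := Cfsg.Lib.Coprime.card_comap_mk' K'
  by_cases hqt : t ≤ q
  · refine ⟨K, hKn, fun r hr hd => ?_, fun r hr hd => hKlt r hr (hKi ▸ hd)⟩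
    rw [hKc] at hd
    rcases hr.dvd_mul.mp hd with h' | h'
    · rw [hCa] at h'
      rwa [(Nat.prime_dvd_prime_iff_eq hr hq).mp (hr.dvd_of_dvd_pow h')]
    · exact hKge r hr h'
  push Not at hqt
  have hCt : Nat.card C < t := by
    obtain ⟨h1, h2⟩ := card_le_of_elementary h hCe
    by_cases h2' : q = 2
    · have := h2 h2'; omega
    · exact (h1 h2').trans_lt hqt
  have hcopK : (Nat.card C).Coprime (Nat.card K') := by
    rw [hCa]
    exact (hq.coprime_iff_not_dvd.mpr fun hd => absurd (hKge _ hq hd) (not_le.mpr hqt)).pow_left a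
  have hidx : (C.subgroupOf K).index = Nat.card K' := by
    have h1 := (C.subgroupOf K).card_mul_index
    rw [Nat.card_congr (subgroupOfEquivOfLe hCK).toEquiv, hKc] at h1
    exact Nat.eq_of_mul_eq_mul_left Nat.card_pos h1
  obtain ⟨L, hL⟩ := Subgroup.exists_right_complement'_of_coprime (N := C.subgroupOf K)
    (by rwa [hidx, Nat.card_congr (subgroupOfEquivOfLe hCK).toEquiv])
  have hLc : Nat.card L = Nat.card K' := hL.symm.index_eq_card.symm.trans hidx
  have hcen : ∀ l : L, ∀ c ∈ C, ((l : K) : X) * c * ((l : K) : X)⁻¹ = c := by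
    intro l c hc
    let φ : L →* Equiv.Perm C :=
      (MulAut.toPerm C).comp ((MulAut.conjNormal (H := C)).comp (K.subtype.comp L.subtype))
    have hone : φ l = 1 := by
      by_contra hne
      obtain ⟨r, hr, hrd⟩ := Nat.exists_prime_and_dvd (n := orderOf (φ l))
        (fun h0 => hne (orderOf_eq_one_iff.mp h0))
      have h1 := hKge r hr (hLc ▸ hrd.trans ((orderOf_map_dvd φ l).trans (orderOf_dvd_natCard l)))
      have h2 : r ∣ (Nat.card C).factorial := by
        rw [← Nat.card_perm]; exact hrd.trans (orderOf_dvd_natCard _)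
      have := (hr.dvd_factorial).mp h2
      omega
    exact congrArg Subtype.val (Equiv.congr_fun hone ⟨c, hc⟩)
  have hLn : L.Normal := by
    refine normalizer_eq_top_iff.mp (eq_top_iff.mpr (hL.sup_eq_top.ge.trans
      (sup_le ?_ le_normalizer)))
    intro c hc
    have hcm : ∀ l : K, l ∈ L → l * c * l⁻¹ = c := fun l hl =>
      Subtype.ext (by simpa using hcen ⟨l, hl⟩ _ hc)
    rw [mem_normalizer_iff]
    intro x
    constructor
    · intro hx
      have := hcm x hx
      rw [mul_inv_eq_iff_eq_mul] at this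
      rwa [← this, mul_inv_cancel_right]
    · intro hx
      have := hcm _ hx
      have h2 : x = c * x * c⁻¹ := by
        rw [mul_inv_eq_iff_eq_mul] at this
        exact mul_left_cancel (a := c) (by simpa [mul_assoc] using this)
      rwa [h2]
  haveI := hLn
  have hLi : L.index = Nat.card C := by
    rw [hL.index_eq_card, Nat.card_congr (subgroupOfEquivOfLe hCK).toEquiv]
  have hLcop : (Nat.card L).Coprime L.index := by
    rw [hLi, hLc]; exact hcopK.symm
  refine ⟨L.map K.subtype, ⟨fun x hx g => ?_⟩, fun r hr hd => ?_, fun r hr hd => ?_⟩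
  · obtain ⟨⟨x, hxK⟩, hxL, rfl⟩ := mem_map.mp hx
    refine mem_map.mpr ⟨MulAut.conjNormal g ⟨x, hxK⟩, ?_, MulAut.conjNormal_apply g _⟩
    rw [Cfsg.Lib.OrderType.mem_iff_orderOf_dvd L hLcop, MulEquiv.orderOf_eq,
      ← Cfsg.Lib.OrderType.mem_iff_orderOf_dvd L hLcop]
    exact hxL
  · rw [Subgroup.card_subtype, hLc] at hd
    exact hKge r hr hd
  · rw [Subgroup.index_map_subtype, hLi] at hd
    rcases hr.dvd_mul.mp hd with h' | h'
    · rw [hCa] at h'
      rw [(Nat.prime_dvd_prime_iff_eq hr hq).mp (hr.dvd_of_dvd_pow h')]; exact hqt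
    · exact hKlt r hr (hKi ▸ h')

end Cfsg.Lib.RankTwo
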